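import Cfsg.Agent.N2.Cl.Ten.Cnt
import Cfsg.Agent.N2.Cl.Ten.Sem
import Cfsg.Agent.N2.Cl.Ten.Num

/-!
# N2 classical: tensor decompositions, linear and unitary groups (helper54)

The element is `J ⊗ s`, `J` regular unipotent in one factor, `s` semisimple in a factor of minimal dimension.
-/

set_option autoImplicit false
set_option linter.unusedSectionVars false

namespace Cfsg.Agent.N2C.Ten

open Cfsg.Agent.DS.Cl Cfsg.Agent.DS.Cl.Fwd Module
open Cfsg.Agent.N2C.Cyc (I0 Lf ZI el cU)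
open Cfsg.Agent.TH.Cl (TenD KL KU)
open scoped Pointwise

variable {A : Type} [Ring A] [StarRing A] [Finite A]

theorem Md.card {q k : ℕ} (h : Md A q k) : Nat.card (⊤ : Subring A) = q ^ (2 * k ^ 2) := by
  obtain ⟨E, h1, -⟩ := h.units id fun _ => rfl
  rw [card_eq_pow h1.toMU0 (T := ⊤) fun _ _ => trivial, show ⊤ ⊓ CE E = Subring.center A from Subring.ext fun x =>
    ⟨fun k => h1.cen x (mem_CE.1 k.2), fun k => ⟨trivial, mem_CE.2 fun _ _ => (cen_comm k _).symm⟩⟩, h.cen, ← pow_mul]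

theorem dim_eq {q n k m : ℕ} (hq : 2 ≤ q) (h : q ^ (2 * n ^ 2) = (q ^ (2 * m ^ 2)) ^ k ^ 2) : n = k * m := by
  rw [← pow_mul] at h
  have h1 := Nat.pow_right_injective hq h
  exact Nat.pow_left_injective two_ne_zero (show n ^ 2 = (k * m) ^ 2 by nlinarith)

theorem cj_mem_stab {𝓑 : Set (Subring A)} (t : Tens 𝓑) {B : Subring A} (hB : B ∈ 𝓑) {g : Aˣ} (hg : (g : A) ∈ B) :
    cj A g ∈ setStab (RingAut A) 𝓑 := by
  refine le_setStab (P := ptStab _ 𝓑) (fun g hg B hB => by rwa [hg B hB]) fun B' hB' => ?_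
  by_cases e : B' = B
  · subst e
    exact smul_eq_of_inv (fun x hx => mul_mem (mul_mem hg hx) (inv_mem_fin hg))
      fun x hx => mul_mem (mul_mem (inv_mem_fin hg) hx) hg
  · exact smul_eq_of_fix fun x hx => cj_eq_of_mul (t.comm B' hB' B hB e x hx g hg).symm

theorem pw_cong {M : Type*} [Monoid M] {x : M} {k a b : ℕ} (hx : x ^ k = 1) (h : a ≡ b [MOD k]) : x ^ a = x ^ b := by
  rw [pow_eq_pow_mod a hx, h, ← pow_eq_pow_mod b hx]

theorem uu_C1_le {s : Aˣ} (hs : (s : A) * star (s : A) = 1) : ∀ x ∈ C1 (s : A), star x ∈ C1 (s : A) := fun _ hx =>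
  mem_C1.2 (Cyc.star_comm hs (mul_eq_one_comm.1 hs) (mem_C1.1 hx))

/-- the common properties of linear and unitary groups -/
structure Frm (F : FR A) (p q n : ℕ) (c : A) (δ : Aˣ) : Prop where
  lu : LU c δ
  md : Md A q n
  two : 2 ≤ q
  five : 5 ≤ n
  zle : uu (Subring.center A) ≤ q + 1
  big : q ^ n ^ 2 ≤ 2 * q * Nat.card (I0 F)
  unip : ∀ u ∈ F.Iso, ∀ a, u ^ p ^ a = 1 → u ∈ I0 F
  kind : (∃ ε : A, Eps ε ∧ uu (Subring.center A) ≤ q) ∨ ((∀ x ∈ Subring.center A, x ≠ 0 → IsUnit x) ∧ p.Coprime (q + 1) ∧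
    (∀ z ∈ ZI F, z ^ (q + 1) = 1) ∧ q + 1 ≤ uu (Subring.center A))

theorem exists_lam (h1 : ∀ x ∈ Subring.center A, x ≠ 0 → IsUnit x) (h2 : 3 ≤ uu (Subring.center A)) :
    ∃ lam ∈ Subring.center A, lam * star lam = 1 ∧ IsUnit (lam - star lam) := by
  classical
  by_contra hc
  have h3 : ∀ x : {x : A // x ∈ Subring.center A ∧ x * star x = 1}, x.1 ≠ 1 → x.1 = -1 := fun x hx => by
    have h4 : x.1 - star x.1 = 0 := by
      by_contra h4
      exact hc ⟨x, x.2.1, x.2.2, h1 _ (sub_mem x.2.1 (star_cen x.2.1)) h4⟩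
    have h5 := x.2.2
    rw [← sub_eq_zero.1 h4] at h5
    exact eq_neg_of_add_eq_zero_left ((h1 _ (sub_mem x.2.1 (one_mem _)) (sub_ne_zero.2 hx)).mul_right_eq_zero.1 (by
      rw [sub_mul, mul_add, h5, one_mul, mul_one, add_comm, sub_self]))
  have h4 := Nat.card_le_card_of_injective (fun x : {x : A // x ∈ Subring.center A ∧ x * star x = 1} => decide (x.1 = 1))
    fun x y e => Subtype.ext (by
      by_cases hx : x.1 = 1
      · rw [hx, (decide_eq_decide.1 e).1 hx]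
      · rw [h3 x hx, h3 y fun k => hx ((decide_eq_decide.1 e).2 k)])
  rw [Nat.card_eq_fintype_card (α := Bool), Fintype.card_bool] at h4
  exact absurd (h2.trans h4) (by norm_num)

namespace Frm

variable {F : FR A} {H : Subgroup (RingAut A)} {p q n : ℕ} {c : A} {δ : Aˣ} (f : Frm F p q n c δ)
include f

theorem iso {u : Aˣ} (hu : (u : A) * star (u : A) = 1) : u ∈ F.Iso := mem_Iso_max (F.L_eq f.lu.cc f.lu.ca) hu

theorem nil (x : Ctx F H p) (u : Aˣ) (hu : (u : A) * star (u : A) = 1) (hn : IsNilpotent ((u : A) - 1)) :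
    u ∈ I0 F ∧ ∃ a, u ^ p ^ a = 1 := by
  have := x.ss.1
  obtain ⟨a, ha⟩ := exists_pow_one x.prime x.char hn
  rw [add_sub_cancel] at ha
  exact ⟨f.unip u (f.iso hu) a (Units.ext ha), a, Units.ext ha⟩

/-- the element `J ⊗ s` -/
theorem step (x : Ctx F H p) {B : Subring A} (h : CS B) {a : ℕ} (d : Dt B q (a + 1)) {s : Aˣ} (s1 : s ∈ I0 F)
    (s2 : (s : A) ∈ Cz B) {r : ℕ} (hr : p.Coprime r) (s3 : s ^ r = 1) {β : ℕ}
    (hβ : Nat.card ↥(Cz B ⊓ C1 (s : A)) ≤ β ^ 2) : ∃ J ∈ I0 F, (J : A) ∈ B ∧ (∃ N, (J * s) ^ N = s ∧ N ≡ 1 [MOD r]) ∧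
      cU ((J * s : Aˣ) : A) ≤ uu (Cz B ⊓ C1 (s : A)) * β ^ a := by
  obtain ⟨E, h1, h2, h3, h4⟩ := d.units Fin.rev Fin.rev_rev
  obtain ⟨J, j1, j2, j3, j4⟩ := f.lu.exists_J (star_sh h4) ⟨_, sh_nil h1⟩ h.cen_le (sh_mem h2)
  obtain ⟨j5, α, j6⟩ := f.nil x J j2 j3
  obtain ⟨N, n1, n2⟩ := Nat.chineseRemainder (hr.pow_left α) 0 1
  have h5 : (J * s) ^ N = s := by
    rw [(show Commute J s from Units.ext (s2 J j1)).mul_pow, pw_cong j6 n1, pw_cong s3 n2, pow_zero, pow_one, one_mul]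
  refine ⟨J, j5, j1, ⟨N, h5, n2⟩, ?_⟩
  rw [inf_comm, ← h3] at hβ ⊢
  refine le_trans ?_ (f.lu.uu_sh_le h1 h4 (fun i j => mem_C1.2 (s2 _ (h2 i j)))
    (fun z hz => mem_C1.2 (cen_comm hz _).symm) (uu_C1_le (F.comm_le_Iso s1).1) hβ)
  have key : ∀ y : A, y * ((J * s : Aˣ) : A) = ((J * s : Aˣ) : A) * y → y ∈ C1 (s : A) ⊓ C1 (sh E) := fun y hy => by
    have h6 : Commute y (s : A) := by
      have := Commute.pow_right hy N
      rwa [← Units.val_pow_eq_pow_val, h5] at this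
    have h7 := (show Commute y _ from hy).mul_right h6.units_inv_right
    rw [Units.val_mul, Units.mul_inv_cancel_right] at h7
    exact ⟨mem_C1.2 h6, mem_C1.2 (j4 _ h7)⟩
  exact Nat.card_le_card_of_injective (fun y => ⟨y.1, key y.1 y.2.2, y.2.1⟩) fun _ _ e => Subtype.ext (Subtype.mk.inj e)

theorem gd (x : Ctx F H p) (h : TenD H) : Gd F H := by
  classical
  obtain ⟨-, 𝓑, t1, t2, t3, t4, t5, t6, hst⟩ := h
  have t : Tens 𝓑 := ⟨t1, t2, t3, t4, t5, t6⟩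
  have hM : H ≤ setStab (RingAut A) 𝓑 := le_setStab hst
  have hq := f.two
  have hd : ∀ B ∈ 𝓑, ∃ k, Dt B q k := fun B hB => (cs_of_tens x.ss t hB).data f.lu f.md.cen
  have hex : ∃ k, ∃ B ∈ 𝓑, Dt B q k := t1.nonempty.elim fun B hB => (hd B hB).imp fun _ d => ⟨B, hB, d⟩
  obtain ⟨B₂, hB₂, d₂⟩ := Nat.find_spec hex
  obtain ⟨B₁, hB₁, hne⟩ := t.exists_ne hB₂
  obtain ⟨a, d₁⟩ := hd B₁ hB₁
  have hba := Nat.find_min' hex ⟨B₁, hB₁, d₁⟩
  generalize Nat.find hex = b at d₂ hba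
  have hb := d₂.two (t3 _ hB₂)
  have c₁ := cs_of_tens x.ss t hB₁
  have c₂ := cs_of_tens x.ss t hB₂
  have h21 : B₂ ≤ Cz B₁ := fun y hy z hz => t5 _ hB₁ _ hB₂ hne z hz y hy
  have cD := (cs_top x.ss).cz d₁ le_top
  have e1 := d₁.card_eq le_top
  rw [top_inf_eq] at cD e1
  have cD' := cD.cz d₂ h21
  obtain ⟨k, d⟩ := cD.data f.lu f.md.cen
  obtain ⟨m, d'⟩ := cD'.data f.lu f.md.cen
  obtain rfl : k = b * m := dim_eq hq (by rw [← d.card, ← d'.card, d₂.card_eq h21])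
  obtain rfl : n = a * (b * m) := dim_eq hq (by rw [← d.card, ← e1, f.md.card])
  have hm := d'.pos
  have hfin : Finite (Subring A) := Finite.of_injective _ SetLike.coe_injective
  -- the number of factors
  have ht : 𝓑.ncard ≤ m + 1 := by
    have h1 := tow t hd (Set.toFinite (𝓑 \ {B₁, B₂})).toFinset _ cD'.cen_le fun B hB => by
      obtain ⟨b1, b2⟩ := (Set.Finite.mem_toFinset _).1 hB
      rw [Set.mem_insert_iff, Set.mem_singleton_iff, not_or] at b2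
      exact ⟨b1, le_inf (fun y hy z hz => t5 _ hB₁ _ b1 (Ne.symm b2.1) z hz y hy)
        fun y hy z hz => t5 _ hB₂ _ b1 (Ne.symm b2.2) z hz y hy⟩
    rw [f.md.cen, d'.card, ← pow_mul, Nat.pow_le_pow_iff_right hq, ← Set.ncard_eq_toFinset_card,
      show 4 = 2 ^ 2 from rfl, ← pow_mul, mul_comm 2 (Set.ncard _), pow_mul, Nat.mul_le_mul_left_iff two_pos,
      Nat.pow_le_pow_iff_left two_ne_zero] at h1
    have h2 := (Nat.lt_two_pow_self (n := (𝓑 \ {B₁, B₂}).ncard)).trans_le h1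
    have h3 := Set.le_ncard_sdiff {B₁, B₂} 𝓑
    have h4 := Set.ncard_pair hne
    omega
  -- the order of the stabiliser
  have hL : Nat.card (Lf F (setStab (RingAut A) 𝓑)) * q ^ 3 ≤
      (m + 1) * m * uu (Subring.center A) * q ^ (a ^ 2 + b ^ 2 + m ^ 2) := by
    have h1 := orb (Lf F (setStab (RingAut A) 𝓑)) B₁ 𝓑 fun v hv => (hv.1 B₁).1 hB₁
    have h2 := orb (Lf F (setStab (RingAut A) 𝓑) ⊓ St B₁) B₂ (𝓑 \ {B₁}) fun v hv => ⟨(hv.1.1 B₂).1 hB₂,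
      fun e => hne (smul_left_cancel (cj A v) ((show cj A v • B₁ = B₁ from hv.2).trans (show _ = B₁ from e).symm))⟩
    have h3 := card_stab f.md.nrm c₁ c₂ h21 (Lf F (setStab (RingAut A) 𝓑) ⊓ St B₁ ⊓ St B₂)
      fun v hv => ⟨(F.comm_le_Iso hv.1.1.2).1, hv.1.2, hv.2⟩
    have h4 : (𝓑 \ {B₁}).ncard ≤ m := by rw [Set.ncard_sdiff_singleton_of_mem hB₁]; omega
    have h5 := Nat.mul_le_mul (Nat.mul_le_mul d₁.uni d₂.uni) d'.uni
    generalize Nat.card ↥(Lf F (setStab (RingAut A) 𝓑) ⊓ St B₁ ⊓ St B₂) = g at h2 h3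
    have h6 : g * q ^ 3 ≤ uu (Subring.center A) * q ^ (a ^ 2 + b ^ 2 + m ^ 2) := by
      refine Nat.le_of_mul_le_mul_right ?_ (pow_pos (uu_pos (Subring.center A)) 2)
      calc _ = q ^ 3 * (g * uu (Subring.center A) ^ 2) := by ring
        _ ≤ q ^ 3 * (uu B₁ * uu B₂ * uu (Cz B₁ ⊓ Cz B₂)) := Nat.mul_le_mul_left _ h3
        _ = q * uu B₁ * (q * uu B₂) * (q * uu (Cz B₁ ⊓ Cz B₂)) := by ring
        _ ≤ _ := h5
        _ = _ := by ring
    calc _ ≤ (m + 1) * (m * g) * q ^ 3 :=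
          Nat.mul_le_mul_right _ (h1.trans (Nat.mul_le_mul ht (h2.trans (Nat.mul_le_mul_right _ h4))))
      _ = (m + 1) * m * (g * q ^ 3) := by ring
      _ ≤ _ := by rw [mul_assoc ((m + 1) * m)]; exact Nat.mul_le_mul_left _ h6
  have close : ∀ {J s : Aˣ} (j1 : J ∈ I0 F) (s1 : s ∈ I0 F), (J : A) ∈ B₁ → (s : A) ∈ B₂ → ∀ {κ e : ℕ}, 1 ≤ κ → 3 ≤ e →
      N2.cn (el (mul_mem j1 s1)) * q ^ 2 ≤ κ * q ^ e → 2 * ((m + 1) * m) * uu (Subring.center A) * κ ^ 3 *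
        q ^ (3 * e + (a ^ 2 + b ^ 2 + m ^ 2)) ≤ q ^ ((a * (b * m)) ^ 2 + 8) → Gd F H := by
    intro J s j1 s1 j2 s2 κ e h1 h2 h3 h4
    refine gd_of_over x hM (mul_mem j1 s1) (by
      rw [map_mul]
      exact mul_mem (cj_mem_stab t hB₁ j2) (cj_mem_stab t hB₂ s2)) (le_max_left _ 2) (le_max_right _ _)
      (fin_le (by omega) ?_ hL f.big h4)
    rw [max_mul]
    refine max_le h3 (le_trans ?_ (Nat.mul_le_mul h1 (Nat.pow_le_pow_right (by omega) h2)))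
    rw [one_mul, pow_succ' q 2]
    exact Nat.mul_le_mul_right _ hq
  obtain ⟨a, rfl⟩ : ∃ a', a = a' + 1 := ⟨a - 1, by have := d₁.pos; omega⟩
  have cnU : ∀ {u : Aˣ} (hu : u ∈ I0 F), N2.cn (el hu) ≤ cU (u : A) := fun hu => (Cyc.cn_le hu).trans (Cyc.cI_le_cU F _)
  have hz := f.zle
  have hn := f.five
  have hq1 : q + 1 ≤ q ^ 2 := by nlinarith
  rcases le_or_gt 4 b with h4 | h4
  · obtain ⟨J, j1, j2, -, j3⟩ := f.step x c₁ d₁ (one_mem _) (one_mem _) (Nat.coprime_one_right p) (one_pow 1)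
      (β := q ^ (b * m) ^ 2) (le_trans (Nat.card_le_card_of_injective _ (Subring.inclusion_injective inf_le_left))
        (by rw [d.card, ← pow_mul, mul_comm]))
    refine close j1 (one_mem _) j2 (one_mem _) (κ := q ^ 3) (e := (a + 1) * (b * m) ^ 2) (Nat.one_le_pow _ _ (by omega))
      (by have : 4 ≤ b * m := by nlinarith
          nlinarith) ?_
      (numA hq hz (by omega) h4 hm le_rfl)
    calc _ ≤ uu (Cz B₁) * (q ^ (b * m) ^ 2) ^ a * q ^ 2 :=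
          Nat.mul_le_mul_right _ ((cnU _).trans (j3.trans (Nat.mul_le_mul_right _ (uu_mono inf_le_left))))
      _ = q * uu (Cz B₁) * ((q ^ (b * m) ^ 2) ^ a * q) := by ring
      _ ≤ q ^ 2 * q ^ (b * m) ^ 2 * ((q ^ (b * m) ^ 2) ^ a * q) :=
          Nat.mul_le_mul_right _ (d.uni.trans (Nat.mul_le_mul_right _ (hz.trans hq1)))
      _ = _ := by ring
  have tau : ∃ s ∈ I0 F, (s : A) ∈ B₂ ∧ (∃ r, p.Coprime r ∧ s ^ r = 1) ∧
      Nat.card ↥(Cz B₁ ⊓ C1 (s : A)) ≤ (q ^ (b * m ^ 2)) ^ 2 := by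
    obtain ⟨b, rfl⟩ : ∃ b', b = b' + 1 := ⟨b - 1, by omega⟩
    obtain ⟨E, h1, h2, h3, h5⟩ := d₂.units Fin.rev Fin.rev_rev
    obtain ⟨s, s1, s2, s3, s4⟩ := f.lu.exists_tau h1 h5 (by omega) (by omega) x.prime x.char
      (fun u hu hn => (f.nil x u hu hn).1) c₂.cen_le h2
    refine ⟨s, s1, s2, s3, (s4 _ fun i j => h21 (h2 i j)).trans_eq ?_⟩
    rw [h3, d'.card]
    ring
  obtain rfl | rfl : b = 3 ∨ b = 2 := by omega
  · obtain ⟨s, s1, s2, ⟨r, s3, s4⟩, s5⟩ := tau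
    obtain ⟨J, j1, j2, -, j3⟩ := f.step x c₁ d₁ s1 (h21 s2) s3 s4 s5
    refine close j1 s1 j2 s2 (κ := q ^ 2) (Nat.one_le_pow _ _ (by omega)) (by nlinarith) ?_ (numB hq hz hba hm le_rfl)
    calc _ ≤ (q ^ (3 * m ^ 2)) ^ 2 * (q ^ (3 * m ^ 2)) ^ a * q ^ 2 :=
          Nat.mul_le_mul_right _ ((cnU _).trans (j3.trans (Nat.mul_le_mul_right _ ((uu_le_card _).trans s5))))
      _ = _ := by ring
  have he : 3 ≤ 2 * m ^ 2 * (a + 1) := by nlinarith
  rcases f.kind with ⟨ε, k1, k2⟩ | ⟨k1, k2, k3, k4⟩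
  · obtain ⟨s, s1, s2, ⟨r, s3, s4⟩, s5⟩ := tau
    obtain ⟨J, j1, j2, -, j3⟩ := f.step x c₁ d₁ s1 (h21 s2) s3 s4 s5
    refine close j1 s1 j2 s2 (κ := q ^ 2) (Nat.one_le_pow _ _ (by omega)) he ?_ (numC hq (numL hq k2) hba hn le_rfl)
    have h5 := (Nat.pow_le_pow_iff_left two_ne_zero).1 ((uu_sq_le k1 (T := Cz B₁ ⊓ C1 (s : A))
      ⟨cD.cen_le k1.cen, mem_C1.2 (k1.comm _).symm⟩
      fun y hy => ⟨cD.st y hy.1, uu_C1_le (F.comm_le_Iso s1).1 y hy.2⟩).trans s5)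
    calc _ ≤ q ^ (2 * m ^ 2) * (q ^ (2 * m ^ 2)) ^ a * q ^ 2 :=
          Nat.mul_le_mul_right _ ((cnU _).trans (j3.trans (Nat.mul_le_mul_right _ h5)))
      _ = _ := by ring
  obtain ⟨lam, l1, l2, l3⟩ := exists_lam k1 (by omega)
  obtain ⟨E, h1, h2, h3, h5⟩ := d₂.units id fun _ => rfl
  obtain ⟨s, s1, s2, s3, s4, s5⟩ := exists_diag h1 h5 l1 l2 l3 (fun u hu => f.iso hu) c₂.cen_le h2
  obtain ⟨s6, s7⟩ := s4 _ fun i j => h21 (h2 i j)
  rw [h3] at s6 s7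
  rw [d'.card] at s6
  obtain ⟨J, j1, j2, ⟨N, n1, n2⟩, j3⟩ := f.step x c₁ d₁ s1 (h21 s2) k2
    (s3 _ (congrArg Units.val (k3 (mkU lam l2) (mem_ZI.2 ⟨l1, l2⟩)))) s6
  have h6 : cU ((J * s : Aˣ) : A) * q ^ 2 ≤ (q + 1) ^ 2 * q ^ (2 * m ^ 2 * (a + 1)) :=
    calc _ ≤ uu (Cz B₁ ⊓ Cz B₂) ^ 2 * (q ^ (2 * m ^ 2)) ^ a * q ^ 2 :=
          Nat.mul_le_mul_right _ (j3.trans (Nat.mul_le_mul_right _ s7))
      _ = (q * uu (Cz B₁ ⊓ Cz B₂)) ^ 2 * (q ^ (2 * m ^ 2)) ^ a := by ring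
      _ ≤ ((q + 1) * q ^ m ^ 2) ^ 2 * (q ^ (2 * m ^ 2)) ^ a :=
          Nat.mul_le_mul_right _ (Nat.pow_le_pow_left (d'.uni.trans (Nat.mul_le_mul_right _ hz)) 2)
      _ = _ := by ring
  rcases le_or_gt 3 q with h7 | h7
  · exact close j1 s1 j2 s2 (Nat.one_le_pow _ _ (by omega)) he ((Nat.mul_le_mul_right _ (cnU _)).trans h6)
      (numC hq (numU h7 hz) hba hn le_rfl)
  obtain rfl : q = 2 := by omega
  have h8 := (Cyc.cn_mul_le_one (mul_mem j1 s1) fun z hz v _ e => by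
    by_contra h9
    have h10 : Commute z (J * s) := Units.ext (Cyc.ZI_comm hz _)
    have h11 : v * s = z * s * v := by
      have h12 := (show SemiconjBy v (J * s) (z * (J * s)) from e).pow_right N
      rwa [h10.mul_pow, n1, pw_cong (k3 z hz) n2, pow_one] at h12
    have h12 := s5 z v (mem_ZI.1 hz).1 (k1 _ (sub_mem (mem_ZI.1 hz).1 (one_mem _))
      fun k => h9 (Units.ext (sub_eq_zero.1 k))) h11
    have h13 := k3 z hz
    rw [pow_succ, h12, one_mul] at h13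
    exact h9 h13).trans (Cyc.cO_le_cU F _)
  rw [card_ZI] at h8
  refine close j1 s1 j2 s2 (κ := 3) (by norm_num) he ?_ (numC hq (by omega) hba hn le_rfl)
  have h9 := (Nat.mul_le_mul_left _ k4).trans h8
  omega

end Frm

end Cfsg.Agent.N2C.Ten

namespace Cfsg.Agent.N2C

open Cfsg.Agent.DS.Cl Cfsg.Agent.DS.Cl.Fwd Module Ten
open Cfsg.Agent.N2C.Cyc (I0 ZI)

theorem Ten.eq_one_of_pow {K : Type} [Field K] {p a : ℕ} (hp : p.Prime) (h0 : (p : K) = 0) {x : K} (hx : x ^ p ^ a = 1) :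
    x = 1 := by
  have : Fact p.Prime := ⟨hp⟩
  have : CharP K p := (CharP.charP_iff_prime_eq_zero hp).2 h0
  rw [← sub_eq_zero, ← pow_eq_zero_iff (pow_pos hp.pos a).ne', sub_pow_char_pow, hx, one_pow, sub_self]

theorem Ten.big_of {q n r I o : ℕ} (hn : 0 < n) (hr : 0 < r) (h1 : r * q ^ (n ^ 2 - 1) ≤ 2 * o) (h2 : o ≤ r * I) :
    q ^ n ^ 2 ≤ 2 * q * I := by
  rw [show n ^ 2 = n ^ 2 - 1 + 1 from (Nat.sub_add_cancel (Nat.one_le_pow _ _ hn)).symm, pow_succ, mul_right_comm]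
  refine Nat.mul_le_mul_right _ (Nat.le_of_mul_le_mul_left (h1.trans ?_) hr)
  rw [mul_left_comm]
  exact Nat.mul_le_mul_left _ h2

/-- **tensor decompositions, linear groups** -/
theorem tenL : OnL 5 pTen := by
  intro K _ _ n F H p k hn x h
  have : Nonempty (Fin n) := ⟨⟨0, by omega⟩⟩
  have hε : Eps (LR.mk 1 0 : LR (Fin n) K) := SB.Tor.eps_LR
  obtain ⟨δ, hδ⟩ := (SB.Fld.luL (n := n) (K := K)).θ_unit
  have hq := Cyc.two_le_q K
  have hz : uu (Subring.center (LR (Fin n) K)) ≤ Fintype.card K := by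
    refine (Nat.pow_le_pow_iff_left two_ne_zero).1 ((uu_sq_le hε hε.cen fun _ => star_cen).trans_eq ?_)
    exact (md_LR (by omega)).cen
  have h0 : (p : K) = 0 := by
    have h1 := congrArg (SB.Fld.prL n K) x.char
    rwa [map_natCast, map_zero, ← map_natCast (algebraMap K _), map_eq_zero] at h1
  refine Frm.gd (c := LR.mk 1 0) (δ := δ) ⟨⟨hε.cen, hε.add, hδ ▸ sub_mem hε.cen hε.st.cen,
    by rw [hδ, star_sub, star_star, neg_sub]⟩, md_LR (by omega), hq, hn, by omega,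
    big_of (by omega) (by omega) (Cyc.oGL_ge' hq (by omega)) (Cyc.card_I0_L k), fun u hu a ha => k.mem_comm hu ?_,
    Or.inl ⟨_, hε, hz⟩⟩ x h
  refine eq_one_of_pow (a := a) x.prime h0 ?_
  rw [← Cyc.detL_val, ← Units.val_pow_eq_pow_val, ← map_pow, ha, map_one, Units.val_one]

/-- **tensor decompositions, unitary groups** -/
theorem tenU : OnU 5 pTen := by
  intro K V _ _ _ _ _ f F q H p k hn x h
  have : Nontrivial V := Module.nontrivial_of_finrank_pos (R := K) (by omega)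
  obtain ⟨θ, hθ⟩ := k.u.2
  have l := SB.Fld.luU f hθ
  obtain ⟨δ, hδ⟩ := l.θ_unit
  obtain ⟨q', hq, hq'⟩ := Size.exists_q k.u
  obtain rfl : q' = q := Nat.pow_left_injective two_ne_zero (hq'.symm.trans k.card)
  have h0 : (p : K) = 0 := by
    have h1 := congrArg (SB.Fld.prU f) x.char
    rwa [map_natCast, map_zero, ← map_natCast (algebraMap K _), map_eq_zero] at h1
  have hz : Nat.card (ZI F) ≤ q' + 1 := by
    choose g g1 g2 using fun z : ZI F => Cyc.exists_sc_ZI z.2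
    exact (Nat.card_le_card_of_injective (fun z => (⟨g z, Units.ext (by
      rw [Units.val_pow_eq_pow_val, pow_succ', ← Cyc.tau_pow k.u k.card, g2, Units.val_one])⟩ :
        {c : Kˣ // c ^ (q' + 1) = 1})) fun a b e => Subtype.ext (by rw [g1, g1, Subtype.mk.inj e])).trans
      (Cyc.card_pow_eq_one_le K q'.succ_pos)
  have hp : p ∣ q' := by
    have : CharP K p := (CharP.charP_iff_prime_eq_zero x.prime).2 h0
    exact x.prime.dvd_of_dvd_pow (k.card ▸ (CharP.cast_eq_zero_iff K p _).1 (FiniteField.cast_card_eq_zero K))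
  refine Frm.gd (δ := δ) ⟨⟨l.c_cen, l.c_add, hδ ▸ sub_mem l.θ_cen (star_cen l.θ_cen),
    by rw [hδ, star_sub, star_star, neg_sub]⟩, md_U k.u k.card rfl (by omega), hq, hn, card_ZI F ▸ hz,
    big_of (by omega) q'.succ_pos (le_trans ?_ (Nat.mul_le_mul_left 2 (Cyc.oGU_ge hq (by omega)))) (Cyc.card_I0_U k),
    fun u hu a ha => k.mem_comm hu ?_, Or.inr ⟨fun z hz h1 => ?_,
      (Nat.coprime_self_add_right.2 (Nat.coprime_one_right _)).coprime_dvd_left hp, fun z => Cyc.ZI_pow_U k,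
      card_ZI F ▸ Cyc.card_ZI_U k⟩⟩ x h
  · have h1 : 3 ≤ finrank K V ^ 2 := by nlinarith
    have h2 : 4 ≤ q' ^ 2 := by nlinarith
    rw [show finrank K V ^ 2 - 1 = 2 + (finrank K V ^ 2 - 3) by omega, pow_add, ← mul_assoc, ← mul_assoc,
      mul_left_comm 2]
    exact Nat.mul_le_mul_right _ (Nat.mul_le_mul_left _ (by omega))
  · refine eq_one_of_pow (a := a) x.prime h0 ?_
    rw [← Cyc.detE_val, ← Units.val_pow_eq_pow_val, ← map_pow, ha, map_one, Units.val_one]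
  · obtain ⟨t, rfl⟩ := cen_scal f hz
    have h2 : t ≠ 0 := fun e => h1 (by rw [e, zero_smul]; rfl)
    exact IsUnit.of_mul_eq_one (f.eb (t⁻¹ • 1)) (by rw [Size.scal_mul, mul_inv_cancel₀ h2, Size.scal_one])

end Cfsg.Agent.N2C
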