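import Cfsg.Agent.N2.Cl.Ten.Mod

/-!
# N2 classical, tensor decompositions: the order of the stabiliser (helper54)

`CS T` central simple subrings, `CS.cz`, `CS.data`; `card_stab`, `orb`, `tow`; `gd_of_over`.
-/

set_option autoImplicit false
set_option linter.unusedSectionVars false

namespace Cfsg.Agent.N2C.Ten

open Cfsg.Agent.DS.Cl Cfsg.Agent.DS.Cl.Fwd
open Cfsg.Agent.N2C.Cyc (I0 Lf el)
open scoped Pointwise

variable {A : Type} [Ring A] [StarRing A] [Finite A]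

/-- the centraliser of a subring -/
abbrev Cz (B : Subring A) : Subring A := Subring.centralizer (B : Set A)

/-- central simple star-closed subrings -/
structure CS (T : Subring A) : Prop where
  nt : Nontrivial A
  cen_le : Subring.center A ≤ T
  st : ∀ x ∈ T, star x ∈ T
  ss : ∀ I : AddSubgroup A, (∀ x ∈ I, x ∈ T) → (∀ x ∈ I, ∀ a ∈ T, a * x ∈ I) → (∀ x ∈ I, star x ∈ I) → I = ⊥ ∨ 1 ∈ I
  cen : ∀ z ∈ T, (∀ y ∈ T, y * z = z * y) → z ∈ Subring.center A

/-- the data of a central simple subring -/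
structure Dt (T : Subring A) (q k : ℕ) : Prop where
  pos : 0 < k
  units : ∀ σ : Fin k → Fin k, Function.Involutive σ → ∃ E, MU0 E ∧ (∀ i j, E i j ∈ T) ∧ CE E = Cz T ∧
    ∀ i j, star (E i j : A) = E (σ j) (σ i)
  card : Nat.card T = q ^ (2 * k ^ 2)
  uni : q * uu T ≤ uu (Subring.center A) * q ^ (k ^ 2)

theorem cs_top (ss : SS A) : CS (⊤ : Subring A) := by
  refine ⟨ss.1, le_top, fun _ _ => trivial, fun I _ h2 h3 => ?_, fun z _ h => Subring.mem_center_iff.2 fun y => h y trivial⟩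
  let J : Ideal A := { I with smul_mem' := fun c x hx => h2 x hx c trivial }
  rcases ss.2 J (fun x hx a => show x * a ∈ I by simpa using h3 _ (h2 _ (h3 x hx) (star a) trivial)) h3 with h | h
  · exact Or.inl (eq_bot_iff.2 fun x hx => (h.le (show x ∈ J from hx) :))
  · exact Or.inr (show (1 : A) ∈ J from h ▸ trivial)

theorem cs_of_tens (ss : SS A) {𝓑 : Set (Subring A)} (h : Tens 𝓑) {B : Subring A} (hB : B ∈ 𝓑) : CS B :=
  ⟨ss.1, h.cen_le B hB, h.star_mem B hB, Blk.ss_elim _ (h.ss ss hB), fun _ => h.cen_blk hB⟩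

namespace CS

variable {T : Subring A} (h : CS T)
include h

/-- the subring as a ring with involution -/
abbrev blk : Blk A := Blk.ofSubring T h.st

theorem ss_blk : SS h.blk.T := Blk.ss_of _ (have := h.nt; one_ne_zero) h.ss

theorem cen_iff {z : h.blk.T} : z ∈ Subring.center h.blk.T ↔ h.blk.val z ∈ Subring.center A := by
  rw [Blk.mem_center_iff]
  exact ⟨h.cen _ (h.blk.val_mem z), fun hz y _ => cen_comm hz y⟩

theorem uu_blk {S : Subring h.blk.T} {S' : Subring A} (h1 : ∀ x, x ∈ S ↔ h.blk.val x ∈ S') (h2 : S' ≤ T) :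
    uu S = uu S' :=
  Nat.card_congr ⟨fun x => ⟨h.blk.val x.1, (h1 _).1 x.2.1, congrArg h.blk.val x.2.2⟩,
    fun x => ⟨h.blk.mk' x.1 (h2 x.2.1), (h1 _).2 x.2.1, h.blk.val_inj x.2.2⟩, fun _ => rfl, fun _ => rfl⟩

theorem data {c : A} {δ : Aˣ} (l : LU c δ) {q : ℕ} (hq : Nat.card (Subring.center A) = q ^ 2) : ∃ k, Dt T q k := by
  let δ' : h.blk.Tˣ := ⟨h.blk.mk' δ (h.cen_le l.dc), h.blk.mk' (δ⁻¹ : Aˣ) (h.cen_le (inv_cen l.dc)),
    h.blk.val_inj δ.mul_inv, h.blk.val_inj δ.inv_mul⟩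
  obtain ⟨q', k, m⟩ := exists_md h.ss_blk (c := h.blk.mk' c (h.cen_le l.cc)) (δ := δ')
    ⟨h.cen_iff.2 l.cc, h.blk.val_inj l.ca, h.cen_iff.2 l.dc, h.blk.val_inj l.ds⟩
  have h1 : Nat.card (Subring.center h.blk.T) = Nat.card (Subring.center A) :=
    Nat.card_congr ⟨fun x => ⟨h.blk.val x.1, h.cen_iff.1 x.2⟩, fun x => ⟨h.blk.mk' x.1 (h.cen_le x.2), h.cen_iff.2 x.2⟩,
      fun _ => rfl, fun _ => rfl⟩
  obtain rfl : q' = q := Nat.pow_left_injective two_ne_zero (m.cen.symm.trans (h1.trans hq))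
  have hu : ∀ σ : Fin k → Fin k, Function.Involutive σ → ∃ E, MU0 E ∧ (∀ i j, E i j ∈ T) ∧ CE E = Cz T ∧
      ∀ i j, star (E i j : A) = E (σ j) (σ i) := fun σ hσ => by
    obtain ⟨E, h2, h3⟩ := m.units σ hσ
    have h4 : MU0 fun i j => h.blk.val (E i j) := ⟨fun i j k l => by
      have h1 := congrArg h.blk.val (h2.mul i j k l)
      split_ifs at h1 ⊢ <;> exact h1, (map_sum _ _ _).symm.trans (congrArg h.blk.val h2.sum)⟩
    have h5 : ∀ i j, h.blk.val (E i j) ∈ T := fun i j => h.blk.val_mem _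
    refine ⟨_, h4, h5, le_antisymm (fun x hx t ht => ?_) fun x hx => mem_CE.2 fun i j => (hx _ (h5 i j)).symm,
      fun i j => congrArg h.blk.val (h3 i j)⟩
    rw [h4.expand t, Finset.sum_mul, Finset.mul_sum]
    refine Finset.sum_congr rfl fun i _ => ?_
    rw [Finset.sum_mul, Finset.mul_sum]
    refine Finset.sum_congr rfl fun j _ => ?_
    have h6 : coef (fun i j => h.blk.val (E i j)) t i j ∈ Subring.center A :=
      h.cen_iff.1 (h2.cen (h.blk.mk' _ (coef_mem h5 ht i j)) fun a b => h.blk.val_inj (h4.coef_comm t i j a b))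
    rw [mul_assoc, ← mem_CE.1 hx, ← mul_assoc, ← mul_assoc, cen_comm h6 x]
  refine ⟨k, m.pos, hu, ?_, ?_⟩
  · obtain ⟨E, h2, h3, h4, -⟩ := hu id fun _ => rfl
    rw [card_eq_pow h2 h3, h4, show T ⊓ Cz T = Subring.center A from le_antisymm (fun z hz => h.cen z hz.1 hz.2)
      (le_inf h.cen_le fun z hz y _ => cen_comm hz y), hq, ← pow_mul]
  · rw [← h.uu_blk (S := ⊤) (fun x => iff_of_true trivial (h.blk.val_mem x)) le_rfl,
      ← h.uu_blk (fun _ => h.cen_iff) h.cen_le]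
    exact m.uni

theorem cz {B : Subring A} {q k : ℕ} (d : Dt B q k) (hB : B ≤ T) : CS (T ⊓ Cz B) := by
  obtain ⟨E, h1, h2, h3, h4⟩ := d.units id fun _ => rfl
  have hE : ∀ i j, E i j ∈ T := fun i j => hB (h2 i j)
  rw [← h3]
  refine ⟨h.nt, le_inf h.cen_le fun z hz => mem_CE.2 fun _ _ => (cen_comm hz _).symm,
    fun x hx => ⟨h.st x hx.1, star_CE h4 hx.2⟩, fun I i1 i2 i3 => ?_, fun z hz k => h.cen z hz.1 fun t ht => ?_⟩
  · let o : Fin k := ⟨0, d.pos⟩
    have i4 : ∀ x ∈ I, ∀ a ∈ T ⊓ CE E, x * a ∈ I := fun x hx a ha => by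
      simpa using i3 _ (i2 _ (i3 x hx) (star a) ⟨h.st a ha.1, star_CE h4 ha.2⟩)
    let J : AddSubgroup A :=
      { carrier := {y | y ∈ T ∧ ∀ a ∈ T, ∀ b ∈ T, coef E (a * y * b) o o ∈ I}
        add_mem' := fun hx hy => ⟨add_mem hx.1 hy.1, fun a ha b hb => by
          simpa only [coef, mul_add, add_mul, Finset.sum_add_distrib] using add_mem (hx.2 a ha b hb) (hy.2 a ha b hb)⟩
        zero_mem' := ⟨zero_mem _, fun a _ b _ => by simp [coef]⟩
        neg_mem' := fun hx => ⟨neg_mem hx.1, fun a ha b hb => by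
          simpa only [coef, mul_neg, neg_mul, Finset.sum_neg_distrib] using neg_mem (hx.2 a ha b hb)⟩ }
    rcases h.ss J (fun _ hx => hx.1) (fun x hx t ht => ⟨mul_mem ht hx.1, fun a ha b hb => by
      simpa only [mul_assoc] using hx.2 (a * t) (mul_mem ha ht) b hb⟩) (fun x hx => ⟨h.st x hx.1, fun a ha b hb => by
      simpa only [coef, star_sum, star_mul, star_star, h4, id, mul_assoc] using
        i3 _ (hx.2 (star b) (h.st b hb) (star a) (h.st a ha))⟩) with h5 | h5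
    · refine Or.inl (eq_bot_iff.2 fun x hx => h5.le (show x ∈ J from ⟨(i1 x hx).1, fun a ha b hb => ?_⟩))
      rw [mul_assoc, coef_mul_coef h1]
      refine I.sum_mem fun l _ => i2 _ ?_ _ ⟨coef_mem hE ha _ _, coef_CE h1 _ _ _⟩
      rw [show coef E (x * b) l o = x * coef E b l o by
        simp only [coef, Finset.mul_sum, ← mul_assoc, mem_CE.1 (i1 x hx).2]]
      exact i4 x hx _ ⟨coef_mem hE hb _ _, coef_CE h1 _ _ _⟩
    · have h6 := h5.2 1 (one_mem _) 1 (one_mem _)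
      rw [mul_one, mul_one, coef_one h1] at h6
      exact Or.inr h6
  · rw [h1.expand t, Finset.sum_mul, Finset.mul_sum]
    refine Finset.sum_congr rfl fun i _ => ?_
    rw [Finset.sum_mul, Finset.mul_sum]
    refine Finset.sum_congr rfl fun j _ => ?_
    rw [mul_assoc, ← mem_CE.1 hz.2, ← mul_assoc, ← mul_assoc, k _ ⟨coef_mem hE ht i j, coef_CE h1 t i j⟩]

/-- Skolem-Noether in a factor -/
theorem sn (nrm : ∀ μ ∈ Subring.center A, star μ = μ → ∃ c ∈ Subring.center A, μ = star c * c) {v : Aˣ}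
    (hv : (v : A) * star (v : A) = 1) (hT : cj A v • T = T) :
    ∃ g : Aˣ, (g : A) ∈ T ∧ (g : A) * star (g : A) = 1 ∧ ∀ x ∈ T, cj A v x = cj A g x := by
  have h1 : cj A v ∈ h.blk.stab := fun x => by
    change x ∈ T ↔ cj A v x ∈ T
    conv_rhs => rw [← hT]
    exact apply_mem_smul.symm
  obtain ⟨g', hg'⟩ := h.ss_blk.sn (γ := h.blk.res ⟨_, h1⟩) fun z hz => h.blk.val_inj (cj_mem_Lin v _ (h.cen_iff.1 hz))
  let g : Aˣ := ⟨h.blk.val g', h.blk.val (g'⁻¹ : h.blk.Tˣ), congrArg h.blk.val g'.mul_inv, congrArg h.blk.val g'.inv_mul⟩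
  have h2 : star (g : A) * g ∈ Subring.center A := h.cen_iff.1 (cj_SAut_cen (hg' ▸ h.blk.res_SAut
    (cj_SAut_of_cen (by rw [mul_eq_one_comm.1 hv]; exact one_mem _))))
  obtain ⟨c, hc, e⟩ := nrm _ h2 (by rw [star_mul, star_star])
  obtain ⟨z, rfl⟩ : IsUnit c := (IsUnit.mul_iff.1 (e ▸ (g.isUnit.star.mul g.isUnit) : IsUnit (star c * c))).2
  refine ⟨g * z⁻¹, mul_mem (h.blk.val_mem _) (h.cen_le (inv_cen hc)), mul_eq_one_comm.1 ?_, fun x hx => ?_⟩
  · rw [Units.val_mul, star_mul, mul_assoc, ← mul_assoc (star (g : A)), e, mul_assoc, Units.mul_inv, mul_one, ← star_mul,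
      Units.mul_inv, star_one]
  · rw [cj_eq_iff.2 ⟨z⁻¹, inv_cen hc, rfl⟩]
    exact congrArg (fun γ : RingAut h.blk.T => h.blk.val (γ (h.blk.mk' x hx))) hg'

end CS

theorem Dt.two {T : Subring A} {q k : ℕ} (d : Dt T q k) (h : ¬ T ≤ Subring.center A) : 2 ≤ k := by
  by_contra h2
  obtain rfl : k = 1 := by have := d.pos; omega
  obtain ⟨E, h1, -, h3, -⟩ := d.units id fun _ => rfl
  have h4 : E 0 0 = 1 := by simpa using h1.sum
  refine h fun x hx => Subring.mem_center_iff.2 fun a => (h3.le (mem_CE.2 fun i j => ?_) x hx).symm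
  rw [Subsingleton.elim i 0, Subsingleton.elim j 0, h4, mul_one, one_mul]

theorem Dt.card_eq {B T : Subring A} {q k : ℕ} (d : Dt B q k) (h : B ≤ T) :
    Nat.card T = Nat.card ↥(T ⊓ Cz B) ^ (k ^ 2) := by
  obtain ⟨E, h1, h2, h3, -⟩ := d.units id fun _ => rfl
  rw [← h3]
  exact card_eq_pow h1 fun i j => h (h2 i j)

theorem uni_mul {x y : A} (hx : x * star x = 1) (hy : y * star y = 1) : x * y * star (x * y) = 1 := by
  rw [star_mul, mul_assoc, ← mul_assoc y, hy, one_mul, hx]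

/-- **the stabiliser of two factors** -/
theorem card_stab (nrm : ∀ μ ∈ Subring.center A, star μ = μ → ∃ c ∈ Subring.center A, μ = star c * c)
    {B₁ B₂ : Subring A} (h₁ : CS B₁) (h₂ : CS B₂) (hc : B₂ ≤ Cz B₁) (G : Subgroup Aˣ)
    (hG : ∀ v ∈ G, (v : A) * star (v : A) = 1 ∧ cj A v • B₁ = B₁ ∧ cj A v • B₂ = B₂) :
    Nat.card G * uu (Subring.center A) ^ 2 ≤ uu B₁ * uu B₂ * uu (Cz B₁ ⊓ Cz B₂) := by
  have key : ∀ v : G, ∃ a b d : A, (a ∈ B₁ ∧ a * star a = 1) ∧ (b ∈ B₂ ∧ b * star b = 1) ∧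
      (d ∈ Cz B₁ ⊓ Cz B₂ ∧ d * star d = 1) ∧ ((v : Aˣ) : A) = a * b * d := fun v => by
    obtain ⟨v1, v2, v3⟩ := hG v v.2
    obtain ⟨a, a1, a2, a3⟩ := h₁.sn nrm v1 v2
    obtain ⟨b, b1, b2, b3⟩ := h₂.sn nrm v1 v3
    have h1 : ∀ x ∈ B₁, cj A b x = x := fun x hx => cj_eq_of_mul (hc b1 x hx).symm
    have h2 : ∀ x ∈ B₂, cj A a x = x := fun x hx => cj_eq_of_mul (hc hx _ a1)
    have h3 : ∀ x, cj A v x = cj A a (cj A b x) → x * (((a * b)⁻¹ * v : Aˣ) : A) = ((a * b)⁻¹ * v : Aˣ) * x :=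
      fun x hx => by
      rw [← cj_mul_eq, map_mul, map_inv, map_mul, ra_mul, hx, ← ra_mul (cj A a), ra_inv_apply]
    refine ⟨a, b, ((a * b)⁻¹ * v : Aˣ), ⟨a1, a2⟩, ⟨b1, b2⟩, ⟨⟨fun x hx => h3 x (by rw [h1 x hx, a3 x hx]),
      fun x hx => h3 x (by rw [b3 x hx, h2 (cj A b x) (mul_mem (mul_mem b1 hx) (inv_mem_fin b1))])⟩, ?_⟩, ?_⟩
    · have h4 : ((a * b : Aˣ) : A) * star ((a * b : Aˣ) : A) = 1 := uni_mul a2 b2
      refine uni_mul ?_ v1
      rw [star_eq_inv h4, star_star, mul_eq_one_comm.1 h4]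
    · rw [← Units.val_mul, ← Units.val_mul, mul_inv_cancel_left]
  choose a b d ha hb hd e using key
  rw [sq, uu, uu, uu, uu, ← Nat.card_prod, ← Nat.card_prod, ← Nat.card_prod, ← Nat.card_prod]
  have hst : ∀ {x : A}, x * star x = 1 → star x * star (star x) = 1 := fun hx => by rw [star_star, mul_eq_one_comm.1 hx]
  refine Nat.card_le_card_of_injective (fun x =>
    ((⟨a x.1 * x.2.1, mul_mem (ha _).1 (h₁.cen_le x.2.1.2.1), uni_mul (ha _).2 x.2.1.2.2⟩,
      ⟨b x.1 * x.2.2, mul_mem (hb _).1 (h₂.cen_le x.2.2.2.1), uni_mul (hb _).2 x.2.2.2.2⟩),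
      ⟨star (x.2.1.1 * x.2.2.1) * d x.1, mul_mem ⟨fun y _ => cen_comm (star_cen (mul_mem x.2.1.2.1 x.2.2.2.1)) y,
        fun y _ => cen_comm (star_cen (mul_mem x.2.1.2.1 x.2.2.2.1)) y⟩ (hd _).1,
        uni_mul (hst (uni_mul x.2.1.2.2 x.2.2.2.2)) (hd _).2⟩)) fun x y k => ?_
  have k1 : a x.1 * x.2.1 = a y.1 * y.2.1 := Subtype.mk.inj (Prod.mk.inj (Prod.mk.inj k).1).1
  have k2 : b x.1 * x.2.2 = b y.1 * y.2.2 := Subtype.mk.inj (Prod.mk.inj (Prod.mk.inj k).1).2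
  have k3 : star (x.2.1.1 * x.2.2.1) * d x.1 = star (y.2.1.1 * y.2.2.1) * d y.1 := Subtype.mk.inj (Prod.mk.inj k).2
  have k4 : ∀ (v : G) (s t : {x : A // x ∈ Subring.center A ∧ x * star x = 1}),
      a v * s * (b v * t) * (star (s.1 * t.1) * d v) = (v : Aˣ) := fun v s t => by
    rw [e, mul_assoc (a v), ← mul_assoc s.1, ← cen_comm s.2.1, mul_assoc (b v), ← mul_assoc (a v), mul_assoc,
      ← mul_assoc (s.1 * t.1), uni_mul s.2.2 t.2.2, one_mul]
  have k5 : x.1 = y.1 := Subtype.ext (Units.ext (by rw [← k4 x.1 x.2.1 x.2.2, k1, k2, k3, k4]))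
  rw [← k5] at k1 k2
  exact Prod.ext k5 (Prod.ext (Subtype.ext ((IsUnit.of_mul_eq_one _ (ha _).2).mul_left_cancel k1))
    (Subtype.ext ((IsUnit.of_mul_eq_one _ (hb _).2).mul_left_cancel k2)))

omit [StarRing A] in
/-- the stabiliser of a subring -/
def St (B : Subring A) : Subgroup Aˣ := (MulAction.stabilizer (RingAut A) B).comap (cj A)

omit [StarRing A] in
theorem orb (G : Subgroup Aˣ) (B : Subring A) (X : Set (Subring A)) (h : ∀ v ∈ G, cj A v • B ∈ X) :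
    Nat.card G ≤ X.ncard * Nat.card ↥(G ⊓ St B) := by
  let _ : MulAction G (Subring A) := MulAction.compHom _ ((cj A).comp G.subtype)
  have : Finite (Subring A) := Finite.of_injective _ SetLike.coe_injective
  rw [← (MulAction.stabilizer G B).index_mul_card, MulAction.index_stabilizer]
  refine Nat.mul_le_mul (Set.ncard_le_ncard (by rintro _ ⟨v, rfl⟩; exact h v v.2) (Set.toFinite X)) ?_
  exact Nat.card_le_card_of_injective (fun v => ⟨v.1.1, v.1.2, v.2⟩)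
    fun _ _ e => Subtype.ext (Subtype.ext (Subtype.mk.inj e))

/-- the number of factors -/
theorem tow {𝓑 : Set (Subring A)} (h : Tens 𝓑) {q : ℕ} (hd : ∀ B ∈ 𝓑, ∃ k, Dt B q k) (s : Finset (Subring A)) :
    ∀ T : Subring A, Subring.center A ≤ T → (∀ B ∈ s, B ∈ 𝓑 ∧ B ≤ T) →
      Nat.card (Subring.center A) ^ 4 ^ s.card ≤ Nat.card T := by
  classical
  induction s using Finset.induction_on with
  | empty => exact fun T hT _ => by simpa using Nat.card_le_card_of_injective _ (Subring.inclusion_injective hT)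
  | insert B s hB ih =>
    intro T hT hs
    obtain ⟨b1, b2⟩ := hs B (Finset.mem_insert_self _ _)
    obtain ⟨k, d⟩ := hd B b1
    have h1 := ih (T ⊓ Cz B) (le_inf hT fun z hz y _ => cen_comm hz y) fun B' hB' => by
      obtain ⟨c1, c2⟩ := hs B' (Finset.mem_insert_of_mem hB')
      exact ⟨c1, le_inf c2 fun y hy x hx => h.comm B b1 B' c1 (fun e => hB (e ▸ hB')) x hx y hy⟩
    rw [Finset.card_insert_of_notMem hB, pow_succ, pow_mul, d.card_eq b2]
    exact (Nat.pow_le_pow_left h1 4).trans (Nat.pow_le_pow_right Nat.card_pos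
      (Nat.pow_le_pow_left (d.two (h.not_le B b1)) 2))

/-- **criterion with an overgroup** -/
theorem gd_of_over {F : FR A} {H M : Subgroup (RingAut A)} {p : ℕ} (c : Ctx F H p) (hM : H ≤ M) {u : Aˣ} (hu : u ∈ I0 F)
    (huM : cj A u ∈ M) {k : ℕ} (h1 : N2.cn (el hu) ≤ k) (h2 : 2 ≤ k) (h3 : k ^ 3 * Nat.card (Lf F M) ≤ Nat.card (I0 F)) :
    Gd F H := by
  have h4 : ¬ F.S ≤ M := fun hS => by
    rw [show Lf F M = I0 F from inf_eq_right.2 fun v hv => hS ⟨v, hv, rfl⟩] at h3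
    have h5 : 0 < Nat.card (I0 F) := Nat.card_pos
    have h6 := Nat.pow_le_pow_left h2 3
    nlinarith
  exact Cyc.gd_of_lift hu (c.max' hM h4 ⟨u, hu, rfl⟩ huM) h1 ((Nat.mul_le_mul_left _
    (Subgroup.card_le_of_le (inf_le_inf_right _ (Subgroup.comap_mono hM)))).trans h3)

end Cfsg.Agent.N2C.Ten
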