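import Cfsg.Agent.N2.Cl.Ten.Alg
import Cfsg.Agent.N2.Cl.Size
import Cfsg.Agent.N2.Cl.Cyc.Ord

/-!
# N2 classical, tensor decompositions: rings of linear and unitary type (helper54)

`Md R q k` : `R` is a ring of `k × k` matrices over its centre of order `q ^ 2`, with matrix units adapted to the involution.
-/

set_option autoImplicit false
set_option linter.unusedSectionVars false

namespace Cfsg.Agent.N2C.Ten

open Cfsg.Agent.DS.Cl Cfsg.Agent.DS.Cl.Fwd Module
open Cfsg.Agent.SB.Cl (IsU IsSp IsO)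
open Cfsg.Agent.N2C.Size (SI fm Kd exists_kind)
open Cfsg.Agent.N2C.Cyc (ZI)

section ring

variable {R R' : Type} [Ring R] [StarRing R] [Ring R'] [StarRing R']

/-- the data of a ring of linear or unitary type -/
structure Md (R : Type) [Ring R] [StarRing R] (q k : ℕ) : Prop where
  pos : 0 < k
  units : ∀ σ : Fin k → Fin k, Function.Involutive σ → ∃ E, MU E ∧ ∀ i j, star (E i j : R) = E (σ j) (σ i)
  cen : Nat.card (Subring.center R) = q ^ 2
  uni : q * uu (⊤ : Subring R) ≤ uu (Subring.center R) * q ^ (k ^ 2)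
  nrm : ∀ μ ∈ Subring.center R, star μ = μ → ∃ c ∈ Subring.center R, μ = star c * c

theorem card_units [Finite R] {T : Subring R} {G : Subgroup Rˣ}
    (h : ∀ u : Rˣ, u ∈ G ↔ (u : R) ∈ T ∧ (u : R) * star (u : R) = 1) : Nat.card G = uu T :=
  Nat.card_congr ⟨fun u => ⟨u.1, (h _).1 u.2⟩, fun x => ⟨mkU x.1 x.2.2, (h _).2 x.2⟩,
    fun _ => Subtype.ext (Units.ext rfl), fun _ => rfl⟩

theorem card_Iso [Finite R] {F : FR R} (hF : F.L = Lmax R) : Nat.card F.Iso = uu (⊤ : Subring R) :=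
  card_units fun _ => ⟨fun k => ⟨trivial, k.1⟩, fun k => mem_Iso_max hF k.2⟩

theorem mem_ZI {F : FR R} {z : Rˣ} : z ∈ ZI F ↔ (z : R) ∈ Subring.center R ∧ (z : R) * star (z : R) = 1 :=
  ⟨fun k => ⟨cj_eq_one_iff.1 k.2, k.1.1⟩,
    fun k => ⟨FR.mem_Iso_of_cj k.2 (by rw [cj_eq_one_iff.2 k.1]; exact one_mem _), cj_eq_one_iff.2 k.1⟩⟩

theorem card_ZI [Finite R] (F : FR R) : Nat.card (ZI F) = uu (Subring.center R) := card_units fun _ => mem_ZI

omit [StarRing R] in
theorem card_cen {k Q : ℕ} {E : Fin k → Fin k → R} (h : MU E) (hk : 0 < k) (hc : Nat.card R = Q ^ (k ^ 2)) :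
    Nat.card (Subring.center R) = Q := by
  have h1 := card_eq_pow h.toMU0 (T := ⊤) fun _ _ => trivial
  rw [show ⊤ ⊓ CE E = Subring.center R from Subring.ext fun x => ⟨fun k => h.cen x (mem_CE.1 k.2),
    fun k => ⟨trivial, mem_CE.2 fun _ _ => (cen_comm k _).symm⟩⟩, Nat.card_congr Subring.topEquiv.toEquiv, hc] at h1
  exact (Nat.pow_left_injective (by positivity) h1).symm

theorem uu_congr {e : R ≃+* R'} (he : SI e) {T : Subring R} {T' : Subring R'} (h : ∀ x, e x ∈ T' ↔ x ∈ T) :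
    uu T = uu T' :=
  Nat.card_congr (e.toEquiv.subtypeEquiv fun x => and_congr (h x).symm (by
    change _ ↔ e x * star (e x) = 1
    rw [← he, ← map_mul, map_eq_one_iff _ e.injective]))

theorem Md.of_SI {e : R ≃+* R'} (he : SI e) {q k : ℕ} (h : Md R' q k) : Md R q k where
  pos := h.pos
  units σ hσ := by
    obtain ⟨E, h1, h2⟩ := h.units σ hσ
    refine ⟨fun i j => e.symm (E i j), ⟨h1.toMU0.map (e.symm : R' →+* R), fun a ha => ?_⟩, fun i j => by rw [← he.symm, h2]⟩
    refine (Size.mem_center_map e).1 (h1.cen _ fun i j => ?_)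
    simpa using congrArg e (ha i j)
  cen := (Nat.card_congr (e.toEquiv.subtypeEquiv fun _ => (Size.mem_center_map e).symm)).trans h.cen
  uni := by
    rw [uu_congr he (T' := ⊤) fun _ => Iff.rfl, uu_congr he fun _ => Size.mem_center_map e]
    exact h.uni
  nrm μ h1 h2 := by
    obtain ⟨c, h3, h4⟩ := h.nrm (e μ) ((Size.mem_center_map e).2 h1) (by rw [← he, h2])
    exact ⟨e.symm c, (Size.mem_center_map e.symm).2 h3, by rw [← he.symm, ← map_mul, ← h4, e.symm_apply_apply]⟩

theorem Eps.nrm {ε : R} (hε : Eps ε) {μ : R} (h1 : μ ∈ Subring.center R) (h2 : star μ = μ) :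
    ∃ c ∈ Subring.center R, μ = star c * c :=
  ⟨ε * μ + star ε, add_mem (mul_mem hε.cen h1) hε.st.cen, by
    rw [star_add, star_mul, h2, star_star, add_mul, mul_add, mul_add, mul_assoc, mul_assoc, ← mul_assoc (star ε), hε.sm,
      hε.st.idem, ← mul_assoc ε, hε.idem, hε.ms, zero_mul, mul_zero, zero_add, add_zero, hε.st.comm, add_comm,
      ← hε.split]⟩

end ring

theorem md_LR {K : Type} [Field K] [Fintype K] {n : ℕ} (hn : 0 < n) : Md (LR (Fin n) K) (Fintype.card K) n := by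
  have hu : ∀ σ : Fin n → Fin n, Function.Involutive σ →
      ∃ E, MU E ∧ ∀ i j, star (E i j : LR (Fin n) K) = E (σ j) (σ i) := fun σ hσ => by
    refine ⟨fun i j => LR.mk (Matrix.single i j 1) (Matrix.single (σ i) (σ j) 1), ⟨⟨fun i j k l => ?_, ?_⟩, fun a ha => ?_⟩,
      fun i j => by simp only [LR.star_mk, Matrix.transpose_single, hσ i, hσ j]⟩
    · rw [LR.mk_mul]
      split_ifs with hjk
      · rw [hjk, Matrix.single_mul_single_same, Matrix.single_mul_single_same, mul_one]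
      · rw [Matrix.single_mul_single_of_ne _ _ _ _ hjk, Matrix.single_mul_single_of_ne _ _ _ _ (hσ.injective.ne hjk),
          LR.zero_eq]
    · refine Prod.ext (Prod.fst_sum.trans Matrix.sum_single_one) (Prod.snd_sum.trans ?_)
      exact (Equiv.sum_comp hσ.toPerm fun i => Matrix.single i i (1 : K)).trans Matrix.sum_single_one
    · obtain ⟨x, hx⟩ : a.1 ∈ Set.range (Matrix.scalar (Fin n)) :=
        Matrix.mem_range_scalar_iff_commute_single'.2 fun i j => (congrArg Prod.fst (ha i j)).symm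
      obtain ⟨y, hy⟩ : a.2 ∈ Set.range (Matrix.scalar (Fin n)) :=
        Matrix.mem_range_scalar_iff_commute_single'.2 fun i j => by
          have h1 : a.2 * Matrix.single (σ (σ i)) (σ (σ j)) 1 = Matrix.single (σ (σ i)) (σ (σ j)) 1 * a.2 :=
            congrArg Prod.snd (ha (σ i) (σ j))
          rw [hσ, hσ] at h1
          exact h1.symm
      exact Subring.mem_center_iff.2 fun g => Prod.ext
        (show g.1 * a.1 = a.1 * g.1 from hx ▸ (Matrix.scalar_commute x (fun _ => .all _ _) g.1).symm)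
        (show g.2 * a.2 = a.2 * g.2 from hy ▸ (Matrix.scalar_commute y (fun _ => .all _ _) g.2).symm)
  obtain ⟨E, hE, -⟩ := hu id fun _ => rfl
  let F : FR (LR (Fin n) K) := ⟨_, Lmax _, LR.half, Or.inr rfl⟩
  refine ⟨hn, hu, card_cen hE hn (by rw [Size.card_LR, pow_mul]), ?_, fun μ => Eps.nrm SB.Tor.eps_LR⟩
  rw [← card_Iso (F := F) rfl, ← card_ZI F, Cyc.card_Iso_L,
    show n ^ 2 = n ^ 2 - 1 + 1 from (Nat.sub_add_cancel (Nat.one_le_pow _ _ hn)).symm, pow_succ, ← mul_assoc, mul_comm]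
  exact Nat.mul_le_mul_right _ ((Cyc.oGL_le hn).trans (Nat.mul_le_mul_right _ (Cyc.card_ZI_L F hn)))

section U

variable {K V : Type} [Field K] [Fintype K] [AddCommGroup V] [Module K V] [Finite V]

theorem exists_on {h : HF K V} (hU : IsU h) {k : ℕ} (hk : finrank K V = k) :
    ∃ e : V ≃ₗ[K] (Fin k → K), ∀ x y, h.b x y = ∑ i, e x i * h.τ (e y i) := by
  subst hk
  have : Module.Finite K V := Module.Finite.of_finite
  let b : V →ₛₗ[h.τ] V →ₗ[K] K :=
    { toFun := h.lin
      map_add' := fun _ _ => LinearMap.ext fun _ => h.add_right _ _ _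
      map_smul' := fun _ _ => LinearMap.ext fun _ => h.smul_right _ _ _ }
  obtain ⟨c, hc⟩ := ClassicalGeometry.HermOrthonormal.exists_orthonormal_basis (TH.Cl.IsU.tau_ne hU) h.τ_τ b
    ⟨fun x y => show h.τ (h.b y x) = h.b x y by rw [h.swap y x, hU.1, one_mul]⟩ h.nondeg
  refine ⟨c.equivFun, fun x y => ?_⟩
  change b y x = _
  conv_lhs => rw [← c.sum_equivFun x, ← c.sum_equivFun y]
  simp only [map_sum, LinearMap.sum_apply, LinearMap.map_smulₛₗ, map_smul, LinearMap.smul_apply, hc, smul_eq_mul, mul_ite,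
    mul_one, mul_zero, Finset.sum_ite_eq', Finset.mem_univ, if_true]

theorem exists_basis {h : HF K V} (hU : IsU h) {k : ℕ} (hk : finrank K V = k) {σ : Fin k → Fin k}
    (hσ : Function.Involutive σ) : ∃ f : Basis (Fin k) K V, ∀ i j, h.b (f i) (f (σ j)) = if j = i then 1 else 0 := by
  let h₀ : HF K (Fin k → K) :=
    { τ := h.τ, ε := 1, b := fun x y => ∑ i, x i * h.τ (y (σ i))
      add_left := fun _ _ _ => by simp only [Pi.add_apply, add_mul, Finset.sum_add_distrib]
      smul_left := fun _ _ _ => by simp only [Pi.smul_apply, smul_eq_mul, Finset.mul_sum, mul_assoc]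
      swap := fun x y => by
        rw [one_mul, map_sum, ← Equiv.sum_comp hσ.toPerm]
        exact Finset.sum_congr rfl fun i _ => by rw [map_mul, h.τ_τ, mul_comm, Function.Involutive.coe_toPerm, hσ]
      τ_τ := h.τ_τ
      nondeg := fun v hv => funext fun i => by
        have h1 := hv (Pi.single (σ i) 1)
        rw [Finset.sum_eq_single (σ i) (fun j _ hj => by rw [Pi.single_eq_of_ne hj, zero_mul])
          (fun k => absurd (Finset.mem_univ _) k), Pi.single_eq_same, one_mul, hσ] at h1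
        exact (map_eq_zero h.τ).1 h1 }
  obtain ⟨e, he⟩ := exists_on hU hk
  obtain ⟨e₀, he₀⟩ := exists_on (h := h₀) ⟨rfl, hU.2⟩ (finrank_fin_fun K)
  refine ⟨(Pi.basisFun K (Fin k)).map (e₀.trans e.symm), fun i j => ?_⟩
  simp only [he, Basis.map_apply, LinearEquiv.trans_apply, LinearEquiv.apply_symm_apply, Pi.basisFun_apply]
  refine (he₀ _ _).symm.trans ?_
  change ∑ l, (Pi.single i 1 : Fin k → K) l * h.τ ((Pi.single (σ j) 1 : Fin k → K) (σ l)) = _
  rw [Finset.sum_eq_single i (fun l _ hl => by rw [Pi.single_eq_of_ne hl, zero_mul])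
    (fun k => absurd (Finset.mem_univ _) k), Pi.single_eq_same, one_mul]
  split_ifs with hji
  · rw [hji, Pi.single_eq_same, map_one]
  · rw [Pi.single_eq_of_ne (hσ.injective.ne (Ne.symm hji)), map_zero]

theorem card_ZI_ge {h : HF K V} (hU : IsU h) (F : FR h.EB) {q : ℕ} (hq : Fintype.card K = q ^ 2) [Nontrivial V] :
    q + 1 ≤ Nat.card (ZI F) := by
  rw [← ClassicalGeometry.GUBasic.card_rootsOfUnity_eq hq]
  exact Nat.card_le_card_of_injective (fun c => ⟨Cyc.scU h c, mem_ZI.2 ⟨Cyc.scU_cen _, Cyc.scU_unit (by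
    rw [Cyc.tau_pow hU hq, ← pow_succ']; exact congrArg Units.val c.2)⟩⟩)
    fun _ _ e => Subtype.ext (Cyc.scU_inj (Subtype.mk.inj e))

theorem cen_scal (h : HF K V) [Nontrivial V] {z : h.EB} (hz : z ∈ Subring.center h.EB) : ∃ c : K, z = h.eb (c • 1) :=
  (SB.Tor.exists_sc h hz).imp fun _ hc => h.ap_ext hc

theorem md_U {h : HF K V} (hU : IsU h) {q k : ℕ} (hq : Fintype.card K = q ^ 2) (hk : finrank K V = k) (h0 : 0 < k) :
    Md h.EB q k := by
  have : Nontrivial V := Module.nontrivial_of_finrank_pos (R := K) (hk ▸ h0)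
  have hu : ∀ σ : Fin k → Fin k, Function.Involutive σ → ∃ E, MU E ∧ ∀ i j, star (E i j : h.EB) = E (σ j) (σ i) :=
    fun σ hσ => by
    obtain ⟨f, hf⟩ := exists_basis hU hk hσ
    refine ⟨fun i j => h.eb (h.ro (f i) (f (σ j))), ⟨⟨fun i j k l => ?_, ?_⟩, fun a ha => ?_⟩,
      fun i j => h.ap_ext fun v => ?_⟩
    · refine (h.ro_mul _ _ _ _).trans ?_
      rw [hf]
      split_ifs
      · exact one_smul _ _
      · exact zero_smul _ _
    · refine f.ext fun j => (LinearMap.sum_apply _ _ _).trans ?_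
      exact (Finset.sum_eq_single j (fun i _ hi => (h.ro_apply _ _ _).trans (by rw [hf, if_neg hi, zero_smul]))
        fun k => absurd (Finset.mem_univ _) k).trans ((h.ro_apply _ _ _).trans (by rw [hf, if_pos rfl, one_smul]; rfl))
    · let o : Fin k := ⟨0, h0⟩
      rw [show a = h.eb (h.b (h.ap a (f o)) (f (σ o)) • 1) from f.ext fun i => ?_]
      · exact h.smul_mem_center _
      · have h1 : h.ap a (h.ro (f i) (f (σ o)) (f o)) = h.ro (f i) (f (σ o)) (h.ap a (f o)) :=
          congrArg (fun x => h.ap x (f o)) (ha i o)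
        rwa [h.ro_apply, hf, if_pos rfl, one_smul, h.ro_apply] at h1
    · rw [SB.Cl.ap_star_ro, h.ap_eb, h.ro_apply, hσ, h.swap (f i) v, hU.1, one_mul]
  obtain ⟨E, hE, -⟩ := hu id fun _ => rfl
  obtain ⟨c, hc⟩ := Size.exists_half_U hU
  let F : FR h.EB := ⟨h.eb (c • 1), Lmax _, by rw [Size.star_scal, Size.scal_add, hc, Size.scal_one], Or.inr rfl⟩
  refine ⟨h0, hu, card_cen hE h0 (by rw [Size.card_EB, hq, hk]), ?_, fun μ h1 h2 => ?_⟩
  · rw [← card_Iso (F := F) rfl, ← card_ZI F, Size.card_Iso_U hU hq, hk]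
    refine (Size.oU_le (Nat.pos_of_ne_zero ?_) _).trans (Nat.mul_le_mul_right _ (card_ZI_ge hU F hq))
    rintro rfl
    exact Fintype.card_ne_zero hq
  · obtain ⟨t, rfl⟩ := cen_scal h h1
    obtain ⟨v, hv⟩ := exists_ne (0 : V)
    rw [Size.star_scal] at h2
    obtain ⟨x, hx⟩ := ClassicalGeometry.InvolutiveNorm.exists_mul_sigma_eq (TH.Cl.IsU.tau_ne hU) h.τ_τ
      (smul_left_injective K hv (congrArg (fun a => h.ap a v) h2) : h.τ t = t)
    exact ⟨h.eb (x • 1), h.smul_mem_center _, by rw [Size.star_scal, Size.scal_mul, mul_comm, hx]⟩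

end U

theorem exists_md {R : Type} [Ring R] [StarRing R] [Finite R] (ss : SS R) {c : R} {δ : Rˣ} (l : LU c δ) :
    ∃ q k, Md R q k := by
  rcases exists_kind ss ⟨c, Lmax R, l.ca, Or.inr rfl⟩ with ⟨K, _, _, n, e, hn, he⟩ | ⟨K, _, _, n, h, e, he, hn, k⟩
  · exact ⟨_, _, (md_LR hn).of_SI he⟩
  have : Nonempty (Fin n) := ⟨⟨0, hn⟩⟩
  have hU : IsU h := by
    by_contra hU
    have hτ : ∀ c, h.τ c = c := by
      rcases k with k | k | ⟨_, k⟩
      exacts [absurd k.1 hU, k.1, k.1]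
    have h1 : ∀ z ∈ Subring.center R, star z = z := fun z hz => e.injective (by
      obtain ⟨t, ht⟩ := cen_scal h ((Size.mem_center_map e).2 hz)
      rw [he, ht, Size.star_scal, hτ])
    have h2 : (δ : R) * (c + star c) = 0 := by
      rw [h1 c l.cc, ← two_mul, ← mul_assoc, mul_two, ← sub_neg_eq_add, ← l.ds, h1 _ l.dc, sub_self, zero_mul]
    rw [l.ca, mul_one] at h2
    have := ss.1
    exact δ.ne_zero h2
  obtain ⟨q, -, hq⟩ := Size.exists_q hU
  exact ⟨q, n, (md_U hU hq (finrank_fin_fun K) hn).of_SI he⟩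

end Cfsg.Agent.N2C.Ten
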